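import Groth.Agent.S4733
import Groth.Agent.H46.GeomSpread.Fibre
import Groth.Agent.H46.DomainStalk
import Groth.Agent.Lib.PBasis.FieldSmooth
import Groth.Agent.Lib.Regular.Quotient
import Mathlib.RingTheory.Etale.Field
import Mathlib.AlgebraicGeometry.Morphisms.Integral

/-!
# Almost all fibres of a morphism from a regular scheme have disjoint irreducible components
-/

set_option autoImplicit false
set_option linter.style.haveILetI false
universe u

open CategoryTheory CategoryTheory.Limits AlgebraicGeometry TopologicalSpace

namespace Groth.Agent.Lib.RelMin74.Fibres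

set_option backward.isDefEq.respectTransparency.types false in
/-- The fibre over the generic point has the local rings of the total space. -/
theorem regular_generic_fibre {X Y : Scheme.{u}} (f : X ⟶ Y) [IsIntegral Y]
    (hX : ∀ x : X, IsRegularLocalRing (X.presheaf.stalk x)) (p : f.fiber (genericPoint Y)) :
    IsRegularLocalRing ((f.fiber (genericPoint Y)).presheaf.stalk p) := by
  let η := genericPoint Y
  haveI : Flat (Y.fromSpecResidueField η) := by
    refine Flat.of_stalkMap _ fun z => ?_
    have hf : IsField (Y.presheaf.stalk ((Y.fromSpecResidueField η) z)) := by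
      rw [Scheme.fromSpecResidueField_apply]
      exact Field.toIsField Y.functionField
    letI := hf.toField
    letI := ((Y.fromSpecResidueField η).stalkMap z).hom.toAlgebra
    exact Module.Flat.of_free
  haveI : Flat (f.fiberι η) := inferInstanceAs (Flat (pullback.fst f (Y.fromSpecResidueField η)))
  let φ := (f.fiberι η).stalkMap p
  letI := φ.hom.toAlgebra
  haveI : Module.Flat _ _ := Flat.stalkMap (f.fiberι η) p
  haveI : IsLocalHom (algebraMap (X.presheaf.stalk (f.fiberι η p)) ((f.fiber η).presheaf.stalk p)) :=
    inferInstanceAs (IsLocalHom φ.hom)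
  haveI : Module.FaithfullyFlat (X.presheaf.stalk (f.fiberι η p)) ((f.fiber η).presheaf.stalk p) :=
    Module.FaithfullyFlat.of_flat_of_isLocalHom
  have hb : Function.Bijective φ.hom :=
    ⟨FaithfulSMul.algebraMap_injective _ _, (f.fiberι η).stalkMap_surjective p⟩
  haveI := hX (f.fiberι η p)
  exact IsRegularLocalRing.of_ringEquiv (RingEquiv.ofBijective φ.hom hb)

open TensorProduct in
set_option backward.isDefEq.respectTransparency.types false in
/-- Regularity survives extension to the separable closure. -/
theorem regular_bc_sep {k : Type u} [Field k] {X : Scheme.{u}} (π : X ⟶ Spec (CommRingCat.of k))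
    [LocallyOfFiniteType π] (hX : ∀ x : X, IsRegularLocalRing (X.presheaf.stalk x))
    (y : (pullback π (Spec.map (CommRingCat.ofHom (algebraMap k (SeparableClosure k)))) : Scheme.{u})) :
    IsRegularLocalRing ((pullback π (Spec.map (CommRingCat.ofHom (algebraMap k (SeparableClosure k))))).presheaf.stalk y) := by
  let L := SeparableClosure k
  let g := Spec.map (CommRingCat.ofHom (algebraMap k L))
  obtain ⟨U, hU, hyU, -⟩ := exists_isAffineOpen_mem_and_subset (show pullback.fst π g y ∈ (⊤ : X.Opens) from trivial)
  let S : Type u := Γ(X, U)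
  obtain ⟨ψ, hψ⟩ := Spec.map_surjective (hU.fromSpec ≫ π)
  letI : Algebra k S := ψ.hom.toAlgebra
  haveI : Algebra.FiniteType k S := by
    have h : LocallyOfFiniteType (Spec.map ψ) := hψ ▸ inferInstance
    exact (HasRingHomProperty.Spec_iff (P := @LocallyOfFiniteType)).mp h
  let a := Spec.map (CommRingCat.ofHom (algebraMap k S))
  let j : pullback a g ⟶ pullback π g := pullback.map a g π g hU.fromSpec (𝟙 _) (𝟙 _)
    (by rw [Category.comp_id]; exact hψ) (by simp)
  obtain ⟨z, rfl⟩ : y ∈ Set.range j := by
    rw [Scheme.Pullback.range_map]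
    exact ⟨by rw [hU.range_fromSpec]; exact hyU, ⟨pullback.snd π g y, rfl⟩⟩
  haveI : IsNoetherianRing S := Algebra.FiniteType.isNoetherianRing k S
  letI : Algebra L (S ⊗[k] L) := Algebra.TensorProduct.rightAlgebra
  haveI : Algebra.FormallyEtale k L := Algebra.FormallyEtale.of_isSeparable k _
  haveI : Algebra.IsGeometricallyReduced k L :=
    Groth.Agent.Lib.PBasis.FieldSmooth.formallySmooth_iff_isGeometricallyReduced.mp inferInstance
  haveI : IsNoetherianRing (S ⊗[k] L) := by
    haveI : IsNoetherianRing (L ⊗[k] S) := Algebra.FiniteType.isNoetherianRing L (L ⊗[k] S)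
    exact isNoetherianRing_of_ringEquiv (L ⊗[k] S) (Algebra.TensorProduct.comm k L S).toRingEquiv
  let E := pullbackSpecIso k S L
  let q' : PrimeSpectrum (S ⊗[k] L) := E.hom z
  have hreg : IsRegularLocalRing (Localization.AtPrime (q'.asIdeal.comap (algebraMap S (S ⊗[k] L)))) := by
    let q : (Spec (CommRingCat.of S) : Scheme.{u}) := PrimeSpectrum.comap (algebraMap S (S ⊗[k] L)) q'
    haveI := hX (hU.fromSpec q)
    haveI : IsOpenImmersion hU.fromSpec := hU.isOpenImmersion_fromSpec
    haveI : IsRegularLocalRing ((Spec (CommRingCat.of S)).presheaf.stalk q) :=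
      IsRegularLocalRing.of_ringEquiv (asIso (hU.fromSpec.stalkMap q)).commRingCatIsoToRingEquiv
    exact IsRegularLocalRing.of_ringEquiv (R := (Spec (CommRingCat.of S)).presheaf.stalk q)
      (Spec.stalkIso (CommRingCat.of S) q).commRingCatIsoToRingEquiv
  haveI := (Groth.Agent.S4733.result k S L (Or.inl inferInstance) q'.asIdeal).2 inferInstance hreg
  haveI : IsRegularLocalRing ((Spec (CommRingCat.of (S ⊗[k] L))).presheaf.stalk q') :=
    IsRegularLocalRing.of_ringEquiv
      (Spec.stalkIso (CommRingCat.of (S ⊗[k] L)) q').commRingCatIsoToRingEquiv.symm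
  haveI : IsRegularLocalRing ((pullback a g).presheaf.stalk z) :=
    IsRegularLocalRing.of_ringEquiv (asIso (E.hom.stalkMap z)).commRingCatIsoToRingEquiv
  exact IsRegularLocalRing.of_ringEquiv (asIso (j.stalkMap z)).commRingCatIsoToRingEquiv.symm

/-- The connected component of the members of a component. -/
theorem exists_map (T : Type u) [TopologicalSpace T] :
    ∃ Φ : irreducibleComponents T → ConnectedComponents T, Function.Surjective Φ ∧
      ∀ (C : irreducibleComponents T) (x : T), x ∈ (C : Set T) → ConnectedComponents.mk x = Φ C := by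
  choose pt hpt using fun C : irreducibleComponents T => C.2.1.1
  have h : ∀ (C : irreducibleComponents T) (x : T), x ∈ (C : Set T) →
      ConnectedComponents.mk x = ConnectedComponents.mk (pt C) := fun C x hx => ConnectedComponents.coe_eq_coe'.mpr
    (C.2.1.isConnected.isPreconnected.subset_connectedComponent (hpt C) hx)
  refine ⟨fun C => ConnectedComponents.mk (pt C), fun c => ?_, h⟩
  obtain ⟨x, rfl⟩ := ConnectedComponents.surjective_coe c
  exact ⟨⟨irreducibleComponent x, irreducibleComponent_mem_irreducibleComponents x⟩,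
    (h _ x mem_irreducibleComponent).symm⟩

/-- With unique components through all points the two counts agree. -/
theorem counts_eq (T : Scheme.{u}) [IsNoetherian T]
    (hdom : ∀ t : T, IsDomain (T.presheaf.stalk t)) :
    (irreducibleComponents T).encard = ENat.card (ConnectedComponents T) := by
  obtain ⟨Φ, hs, hΦ⟩ := exists_map T
  have huniq : ∀ C C' : irreducibleComponents T, ∀ x : T, x ∈ (C : Set T) → x ∈ (C' : Set T) → C = C' := by
    intro C C' x hx hx'
    obtain ⟨ξ, hξ⟩ := QuasiSober.sober C.2.1 (isClosed_of_mem_irreducibleComponents _ C.2)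
    obtain ⟨ξ', hξ'⟩ := QuasiSober.sober C'.2.1 (isClosed_of_mem_irreducibleComponents _ C'.2)
    have := Groth.Agent.H46.DomainStalk.eq_of_isDomain_stalk (hdom x) (H46.DomainStalk.isMaxPt_of_mem C.2 hξ)
      (hξ.specializes hx) (H46.DomainStalk.isMaxPt_of_mem C'.2 hξ') (hξ'.specializes hx')
    exact Subtype.ext (hξ.def.symm.trans (this ▸ hξ'.def))
  have hopen : ∀ C : irreducibleComponents T, IsClopen (C : Set T) := fun C => by
    refine ⟨isClosed_of_mem_irreducibleComponents _ C.2, ?_⟩
    rw [← isClosed_compl_iff]
    have h : (C : Set T)ᶜ = ⋃ D ∈ irreducibleComponents T \ {(C : Set T)}, D := by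
      ext x
      simp only [Set.mem_compl_iff, Set.mem_iUnion, Set.mem_diff, Set.mem_singleton_iff, exists_prop]
      constructor
      · exact fun hx => ⟨irreducibleComponent x, ⟨irreducibleComponent_mem_irreducibleComponents x,
          fun h => hx (h ▸ mem_irreducibleComponent)⟩, mem_irreducibleComponent⟩
      · rintro ⟨D, ⟨hD, hne⟩, hxD⟩ hxC
        exact hne (congrArg Subtype.val (huniq ⟨D, hD⟩ C x hxD hxC))
    rw [h]
    exact (NoetherianSpace.finite_irreducibleComponents.subset Set.sdiff_subset).isClosed_biUnion
      fun D hD => isClosed_of_mem_irreducibleComponents D hD.1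
  have hi : Function.Injective Φ := fun C C' h => by
    obtain ⟨x, hx⟩ := C.2.1.1
    obtain ⟨x', hx'⟩ := C'.2.1.1
    have hc : ConnectedComponents.mk x = ConnectedComponents.mk x' := (hΦ C x hx).trans (h.trans (hΦ C' x' hx').symm)
    exact huniq C C' x' ((hopen C).connectedComponent_subset hx (ConnectedComponents.coe_eq_coe'.mp hc.symm)) hx'
  exact (ENat.card_congr (Equiv.ofBijective Φ ⟨hi, hs⟩))

/-- With equal counts every point has a clopen irreducible neighbourhood. -/
theorem clopen_of_counts (T : Type u) [TopologicalSpace T] [NoetherianSpace T]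
    (h : (irreducibleComponents T).encard = ENat.card (ConnectedComponents T)) (x : T) :
    ∃ C : Set T, x ∈ C ∧ IsIrreducible C ∧ IsClopen C := by
  obtain ⟨Φ, hs, hΦ⟩ := exists_map T
  haveI : Finite (irreducibleComponents T) := NoetherianSpace.finite_irreducibleComponents.to_subtype
  haveI : Finite (ConnectedComponents T) := Finite.of_surjective Φ hs
  have hcard : Nat.card (irreducibleComponents T) = Nat.card (ConnectedComponents T) := by
    have h1 : ENat.card (irreducibleComponents T) = ENat.card (ConnectedComponents T) := h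
    rw [ENat.card_eq_coe_natCard, ENat.card_eq_coe_natCard] at h1
    exact_mod_cast h1
  have hi : Function.Injective Φ := (Nat.bijective_iff_surjective_and_card Φ).mpr ⟨hs, hcard⟩ |>.1
  let C : irreducibleComponents T := ⟨irreducibleComponent x, irreducibleComponent_mem_irreducibleComponents x⟩
  refine ⟨_, mem_irreducibleComponent, C.2.1, isClosed_of_mem_irreducibleComponents _ C.2, ?_⟩
  rw [← isClosed_compl_iff]
  have hC : (C : Set T)ᶜ = ⋃ D ∈ {D : irreducibleComponents T | D ≠ C}, (D : Set T) := by
    ext z
    simp only [Set.mem_compl_iff, Set.mem_iUnion, Set.mem_setOf_eq, exists_prop]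
    constructor
    · exact fun hz => ⟨⟨irreducibleComponent z, irreducibleComponent_mem_irreducibleComponents z⟩,
        fun h => hz (h ▸ mem_irreducibleComponent), mem_irreducibleComponent⟩
    · rintro ⟨D, hne, hzD⟩ hzC
      exact hne (hi ((hΦ D z hzD).symm.trans (hΦ C z hzC)))
  show IsClosed (C : Set T)ᶜ
  rw [hC]
  exact (Set.toFinite _).isClosed_biUnion fun D _ => isClosed_of_mem_irreducibleComponents _ D.2

/-- Over a nonempty open of the base each fibre point lies in a clopen irreducible subset of its fibre. -/
theorem exists_open {X Y : Scheme.{u}} (f : X ⟶ Y) [IsIntegral Y] [LocallyOfFiniteType f] [QuasiCompact f]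
    (hX : ∀ x : X, IsRegularLocalRing (X.presheaf.stalk x)) :
    ∃ V : Y.Opens, (V : Set Y).Nonempty ∧ ∀ y ∈ V, ∀ p : f.fiber y,
      ∃ C : Set (f.fiber y), p ∈ C ∧ IsIrreducible C ∧ IsClopen C := by
  obtain ⟨V, hV, hc⟩ := Groth.Agent.H46.GeomSpread.exists_open_counts f _ (genericPoint_spec Y)
  refine ⟨V, hV, fun y hy p => ?_⟩
  have hN : ∀ z : Y, IsNoetherian (MoreMor.geomFiber f z) := fun z => by
    haveI : LocallyOfFiniteType (f.fiberToSpecResidueField z) := inferInstanceAs (LocallyOfFiniteType (pullback.snd f (Y.fromSpecResidueField z)))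
    haveI : QuasiCompact (f.fiberToSpecResidueField z) := inferInstanceAs (QuasiCompact (pullback.snd f (Y.fromSpecResidueField z)))
    unfold MoreMor.geomFiber
    haveI := LocallyOfFiniteType.isLocallyNoetherian (pullback.snd (f.fiberToSpecResidueField z)
      (Spec.map (CommRingCat.ofHom (algebraMap (Y.residueField z) (SeparableClosure (Y.residueField z))))))
    haveI := QuasiCompact.compactSpace_of_compactSpace (pullback.snd (f.fiberToSpecResidueField z)
      (Spec.map (CommRingCat.ofHom (algebraMap (Y.residueField z) (SeparableClosure (Y.residueField z))))))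
    exact {}
  have hη : MoreMor.nGeomIrredComp f (genericPoint Y) = MoreMor.nGeomConnComp f (genericPoint Y) := by
    haveI := hN (genericPoint Y)
    haveI : LocallyOfFiniteType (f.fiberToSpecResidueField (genericPoint Y)) :=
      inferInstanceAs (LocallyOfFiniteType (pullback.snd f (Y.fromSpecResidueField (genericPoint Y))))
    refine counts_eq _ fun t => ?_
    haveI : IsRegularLocalRing ((MoreMor.geomFiber f (genericPoint Y)).presheaf.stalk t) :=
      @regular_bc_sep _ _ _ (f.fiberToSpecResidueField (genericPoint Y)) this (regular_generic_fibre f hX) t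
    exact Groth.Agent.Lib.Regular.Quotient.isDomain _
  have hyc : MoreMor.nGeomIrredComp f y = MoreMor.nGeomConnComp f y := by
    rw [(hc y hy).1, (hc y hy).2, hη]
  haveI := hN y
  let g := Spec.map (CommRingCat.ofHom (algebraMap (Y.residueField y) (SeparableClosure (Y.residueField y))))
  haveI : Surjective g := ⟨fun z => ⟨IsLocalRing.closedPoint _, Subsingleton.elim (α := PrimeSpectrum _) _ _⟩⟩
  haveI : IsIntegralHom g := IsIntegralHom.SpecMap_iff.mpr (Algebra.IsIntegral.isIntegral (R := Y.residueField y))
  let q := pullback.fst (f.fiberToSpecResidueField y) g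
  haveI : Surjective q := inferInstanceAs (Surjective (pullback.fst (f.fiberToSpecResidueField y) g))
  haveI : IsIntegralHom q := inferInstanceAs (IsIntegralHom (pullback.fst (f.fiberToSpecResidueField y) g))
  haveI : UniversallyOpen g := inferInstance
  haveI : UniversallyOpen q := inferInstanceAs (UniversallyOpen (pullback.fst (f.fiberToSpecResidueField y) g))
  obtain ⟨p', hp'⟩ := q.surjective p
  obtain ⟨C, hC, hCi, hCc⟩ := clopen_of_counts (MoreMor.geomFiber f y : Scheme.{u}) hyc p'
  exact ⟨q '' C, ⟨p', hC, hp'⟩, hCi.image _ q.continuous.continuousOn, q.isClosedMap _ hCc.1, q.isOpenMap _ hCc.2⟩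

end Groth.Agent.Lib.RelMin74.Fibres
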