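import Groth.Agent.Lib.RelMin74.Fibres
import Groth.Agent.Lib.NormBlow74.Main
import Groth.Agent.Lib.SurfFactor85.Seq
import Groth.Agent.S7907
import Groth.Agent.Lib.ProjSpace.BaseChange
import Groth.Agent.Lib.Regular.UFD
import Groth.Prelude.Def_ArSurf
import Groth.Prelude.Def_Neron

/-!
# Contractions of arithmetic surfaces happen over a fixed finite set of primes
-/

set_option autoImplicit false
set_option linter.style.haveILetI false
universe u

open CategoryTheory Limits AlgebraicGeometry TopologicalSpace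

namespace Groth.Agent.Lib.RelMin74.Main

open Groth.Agent.Lib Groth.Agent.Lib.NormBlow74

variable {R : Type u} [CommRing R] [IsDedekindDomain R]

/-- An `R`-morphism which is an isomorphism on generic fibres, from an arithmetic surface to a regular
projective flat scheme, is a proper birational surjection onto an integral scheme. -/
theorem setup {X Y : Over (Spec (CommRingCat.of R))} (hX : ArSurf.IsArithSurface R X)
    (hYreg : ∀ y : Y.left, IsRegularLocalRing (Y.left.presheaf.stalk y)) (hYproj : Neron.IsProjectiveOver R Y)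
    (hYflat : Flat Y.hom) (g : X ⟶ Y) (hg : IsIso ((Neron.genericFibre R).map g)) :
    IsProper g.left ∧ IsIntegral Y.left ∧ AlgebraicGeometry.IsNoetherian X.left ∧
      AlgebraicGeometry.IsNoetherian Y.left ∧ Modif.Bir g.left ∧ Surjective g.left ∧
      ∀ a b : X.left, (X.hom a).asIdeal = ⊥ → g.left a = g.left b → a = b := by
  haveI := hX.2.1
  haveI := hYflat
  haveI := hX.2.2.2.1
  obtain ⟨n, i, hi, hiX⟩ := hX.2.2.2.2
  obtain ⟨m, j, hj, hjY⟩ := hYproj
  haveI : IsProper X.hom := by rw [← hiX]; infer_instance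
  haveI : IsProper Y.hom := by rw [← hjY]; infer_instance
  haveI : IsLocallyNoetherian X.left := LocallyOfFiniteType.isLocallyNoetherian X.hom
  haveI : IsLocallyNoetherian Y.left := LocallyOfFiniteType.isLocallyNoetherian Y.hom
  haveI : CompactSpace X.left := QuasiCompact.compactSpace_of_compactSpace X.hom
  haveI : CompactSpace Y.left := QuasiCompact.compactSpace_of_compactSpace Y.hom
  have hw : g.left ≫ Y.hom = X.hom := Over.w g
  have : IsProper (g.left ≫ Y.hom) := by rw [hw]; infer_instance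
  have : IsProper g.left := IsProper.of_comp g.left Y.hom
  set ι := Neron.genPt R
  let gK := ((Neron.genericFibre R).map g).left
  have : IsIso gK := (inferInstance : IsIso ((Over.forget _).map ((Neron.genericFibre R).map g)))
  have hsq : gK ≫ pullback.fst Y.hom ι = pullback.fst X.hom ι ≫ g.left := pullback.lift_fst _ _ _
  -- points over the generic point
  have hηR : ∀ {Z : Over (Spec (CommRingCat.of R))} (z : Z.left), (Z.hom z).asIdeal = ⊥ →
      z ∈ Set.range (pullback.fst Z.hom ι) := fun {Z} z hz => by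
    rw [Scheme.Pullback.range_fst]
    refine ⟨IsLocalRing.closedPoint (FractionRing R), ?_⟩
    refine PrimeSpectrum.ext ?_
    rw [hz]
    show Ideal.comap (algebraMap R (FractionRing R)) (IsLocalRing.maximalIdeal (FractionRing R)) = ⊥
    rw [IsLocalRing.maximalIdeal_eq_bot]
    exact (RingHom.injective_iff_ker_eq_bot _).1 (IsFractionRing.injective R (FractionRing R))
  have : IsPreimmersion ι := IsPreimmersion.of_isLocalization (nonZeroDivisors R)
  have hflatgen : ∀ {Z : Over (Spec (CommRingCat.of R))} [Flat Z.hom] (z : Z.left),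
      ∃ z' : Z.left, z' ⤳ z ∧ (Z.hom z').asIdeal = ⊥ := fun {Z} _ z => by
    obtain ⟨z', hz', he⟩ := Flat.generalizingMap Z.hom (a := z)
      (b := (⟨⊥, Ideal.isPrime_bot⟩ : PrimeSpectrum R))
      ((PrimeSpectrum.le_iff_specializes _ _).1 bot_le)
    exact ⟨z', hz', congrArg PrimeSpectrum.asIdeal he⟩
  obtain ⟨η, hη⟩ : ∃ η, η = genericPoint X.left := ⟨_, rfl⟩
  have hηK : (X.hom η).asIdeal = ⊥ := by
    obtain ⟨z', hz', h0⟩ := hflatgen (Z := X) η
    rwa [show η = z' from ((hη ▸ genericPoint_specializes z').antisymm hz').eq]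
  obtain ⟨η', hη'⟩ := hηR η hηK
  have hgη : g.left η = pullback.fst Y.hom ι (gK η') := by
    show _ = (gK ≫ pullback.fst Y.hom ι) η'
    rw [hsq, ← hη']
    rfl
  -- `Y` is integral
  have hYirr : ∀ y : Y.left, g.left η ⤳ y := by
    intro y
    obtain ⟨y', hy', h0⟩ := hflatgen (Z := Y) y
    obtain ⟨w, hw'⟩ := hηR y' h0
    obtain ⟨x, rfl⟩ := gK.surjective w
    refine Specializes.trans ?_ hy'
    rw [← hw', show pullback.fst Y.hom ι (gK x) = g.left (pullback.fst X.hom ι x) by
      show (gK ≫ pullback.fst Y.hom ι) x = _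
      rw [hsq]
      rfl]
    exact ((specializes_of_eq hη).trans (genericPoint_specializes _)).map g.left.continuous
  have : IrreducibleSpace Y.left := by
    rw [irreducibleSpace_def, Set.top_eq_univ, show (Set.univ : Set Y.left) = closure {g.left η} from
      (Set.eq_univ_of_forall fun y => specializes_iff_mem_closure.1 (hYirr y)).symm]
    exact isIrreducible_singleton.closure
  have : ∀ y : Y.left, _root_.IsReduced (Y.left.presheaf.stalk y) := fun y => by
    have := hYreg y
    have := Groth.Agent.Lib.Regular.Quotient.isDomain (Y.left.presheaf.stalk y)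
    infer_instance
  have : AlgebraicGeometry.IsReduced Y.left := isReduced_of_isReduced_stalk _
  have : IsIntegral Y.left := isIntegral_of_irreducibleSpace_of_isReduced _
  have hgen : g.left η = genericPoint Y.left :=
    ((hYirr _).antisymm (genericPoint_specializes _)).eq
  have hsurj : Surjective g.left := ⟨fun y => by
    have h0 : y ∈ closure ({g.left η} : Set Y.left) := specializes_iff_mem_closure.1 (hYirr y)
    have h1 : y ∈ closure (Set.range g.left) :=
      closure_mono (Set.singleton_subset_iff.2 (Set.mem_range_self (f := ⇑g.left) η)) h0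
    rwa [g.left.isClosedMap.isClosed_range.closure_eq] at h1⟩
  have hbir : IsIso (g.left.stalkMap η) := by
    rw [ConcreteCategory.isIso_iff_bijective]
    refine ⟨?_, ?_⟩
    · intro a b hab
      have : IsField (Y.left.presheaf.stalk (g.left η)) := by
        rw [hgen]; exact (Field.toIsField Y.left.functionField)
      let _ := this.toField
      exact (g.left.stalkMap η).hom.injective hab
    · subst hη'
      set fX := pullback.fst X.hom ι
      intro z
      have hfield : IsField (X.left.presheaf.stalk (fX η')) := by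
        rw [hη]; exact Field.toIsField X.left.functionField
      have hsurjX : Function.Surjective ((pullback.fst Y.hom ι).stalkMap (gK η') ≫ gK.stalkMap η') := by
        intro t
        obtain ⟨a, ha⟩ := (ConcreteCategory.bijective_of_isIso (gK.stalkMap η')).2 t
        obtain ⟨w, hw'⟩ := (pullback.fst Y.hom ι).stalkMap_surjective (gK η') a
        exact ⟨w, (ConcreteCategory.comp_apply _ _ _).trans ((congrArg (gK.stalkMap η') hw').trans ha)⟩
      rw [← Scheme.Hom.stalkMap_comp, Scheme.Hom.stalkMap_congr_hom _ _ hsq, Scheme.Hom.stalkMap_comp] at hsurjX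
      obtain ⟨w, hw'⟩ := hsurjX (fX.stalkMap η' z)
      let _ := hfield.toField
      exact ⟨_, (fX.stalkMap η').hom.injective hw'⟩
  have hbij : Function.Bijective (g.left.stalkMap η) := ConcreteCategory.bijective_of_isIso _
  subst hη
  refine ⟨‹_›, ‹_›, {}, {}, Modif.bir_of_generic g.left hgen ⟨RingHom.injective _, fun y => ?_⟩, hsurj,
    fun a b h0 hab => ?_⟩
  · obtain ⟨s, rfl⟩ := Scheme.residue_surjective X.left _ y
    obtain ⟨t, rfl⟩ := hbij.2 s
    exact ⟨Y.left.residue _ t, congr($(Scheme.residue_residueFieldMap g.left _) t)⟩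
  · obtain ⟨a', rfl⟩ := hηR a h0
    have hb0 : (X.hom b).asIdeal = ⊥ := by
      have h1 : X.hom b = X.hom (pullback.fst X.hom ι a') := by
        have e : ∀ z, X.hom z = Y.hom (g.left z) := fun z => congrArg (fun φ => φ z) hw.symm
        rw [e, e, hab]
      rw [h1]; exact h0
    obtain ⟨b', rfl⟩ := hηR b hb0
    have h2 : pullback.fst Y.hom ι (gK a') = pullback.fst Y.hom ι (gK b') := by
      show (gK ≫ pullback.fst Y.hom ι) a' = (gK ≫ pullback.fst Y.hom ι) b'
      rw [hsq]; exact hab
    haveI : IsPreimmersion (pullback.fst Y.hom ι) := inferInstance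
    rw [gK.homeomorph.injective ((pullback.fst Y.hom ι).isEmbedding.injective h2)]

theorem normal_of_regular {Y : Scheme.{u}} (h : ∀ y : Y, IsRegularLocalRing (Y.presheaf.stalk y)) :
    Pi1.IsNormalScheme Y := fun y => by
  have := h y
  exact ⟨Regular.Quotient.isDomain _, Regular.UFD.isIntegrallyClosed _⟩

theorem dim_le_two {X Y : Scheme.{u}} (g : X ⟶ Y) [UniversallyClosed g] [Surjective g]
    (h : topologicalKrullDim X ≤ 2) (y : Y) : ringKrullDim (Y.presheaf.stalk y) ≤ 2 :=
  (Cyc.TorPD.ringKrullDim_stalk_le y).trans (SurfFactor85.Seq.dim_le_of_surjective g h)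

set_option backward.isDefEq.respectTransparency.types false in
/-- A proper specialization exists inside the fibre of a closed point of height two. -/
theorem exists_gen_in_fibre (hR : Ring.DimensionLEOne R) {Y : Scheme.{u}} [IsLocallyNoetherian Y]
    (q : Y ⟶ Spec (CommRingCat.of R)) (y : Y) (hy : ¬ ringKrullDim (Y.presheaf.stalk y) ≤ 1)
    (hs : (q y).asIdeal ≠ ⊥) : ∃ d : Y, d ⤳ y ∧ d ≠ y ∧ q d = q y := by
  haveI := hR
  obtain ⟨a, ha, ha0⟩ := Submodule.exists_mem_ne_zero_of_ne_bot hs
  let e : Spec (Y.presheaf.stalk y) ⟶ Spec (CommRingCat.of R) := Y.fromSpecStalk y ≫ q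
  obtain ⟨ψ, hψ⟩ := Spec.map_surjective e
  have hqy : q y = PrimeSpectrum.comap ψ.hom (IsLocalRing.closedPoint _) := by
    show _ = Spec.map ψ (IsLocalRing.closedPoint _)
    rw [hψ]
    exact (congrArg q Scheme.fromSpecStalk_closedPoint).symm
  have ham : ψ.hom a ∈ IsLocalRing.maximalIdeal (Y.presheaf.stalk y) := by
    rw [hqy] at ha
    exact ha
  obtain ⟨P, hP, -⟩ := Ideal.exists_minimalPrimes_le
    (show Ideal.span {ψ.hom a} ≤ IsLocalRing.maximalIdeal (Y.presheaf.stalk y) by
      rwa [Ideal.span_le, Set.singleton_subset_iff])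
  haveI : P.IsPrime := hP.1.1
  have hPm : P ≠ IsLocalRing.maximalIdeal _ := by
    rintro rfl
    refine hy ?_
    rw [← IsLocalRing.maximalIdeal_height_eq_ringKrullDim]
    exact_mod_cast Ideal.height_le_one_of_isPrincipal_of_mem_minimalPrimes _ _ hP
  let P' : PrimeSpectrum (Y.presheaf.stalk y) := ⟨P, inferInstance⟩
  refine ⟨Y.fromSpecStalk y P', ?_, ?_, ?_⟩
  · have : Y.fromSpecStalk y P' ∈ Set.range (Y.fromSpecStalk y) := ⟨P', rfl⟩
    rwa [Scheme.range_fromSpecStalk] at this
  · intro h
    have := (Y.fromSpecStalk y).isEmbedding.injective (h.trans Scheme.fromSpecStalk_closedPoint.symm)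
    exact hPm (congrArg PrimeSpectrum.asIdeal this)
  · rw [show q (Y.fromSpecStalk y P') = PrimeSpectrum.comap ψ.hom P' from by
      show _ = Spec.map ψ P'
      rw [hψ]; rfl, hqy]
    refine PrimeSpectrum.ext ?_
    have hne : (PrimeSpectrum.comap ψ.hom P').asIdeal ≠ ⊥ := fun h => ha0 (by
      have : a ∈ (PrimeSpectrum.comap ψ.hom P').asIdeal := hP.1.2 (Ideal.mem_span_singleton_self _)
      rwa [h, Ideal.mem_bot] at this)
    exact ((PrimeSpectrum.comap ψ.hom P').2.isMaximal hne).eq_of_le
      (PrimeSpectrum.comap ψ.hom (IsLocalRing.closedPoint _)).2.ne_top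
      (Ideal.comap_mono (IsLocalRing.le_maximalIdeal P'.2.ne_top))

/-- Contracted curves lie outside the good open. -/
theorem notMem_of_contracted {X Y : Over (Spec (CommRingCat.of R))} (hX : ArSurf.IsArithSurface R X)
    (hYreg : ∀ y : Y.left, IsRegularLocalRing (Y.left.presheaf.stalk y)) (hYproj : Neron.IsProjectiveOver R Y)
    (hYflat : Flat Y.hom) (g : X ⟶ Y) (hg : IsIso ((Neron.genericFibre R).map g))
    (V : (Spec (CommRingCat.of R)).Opens)
    (hV : ∀ s ∈ V, ∀ p : X.hom.fiber s, ∃ C : Set (X.hom.fiber s), p ∈ C ∧ IsIrreducible C ∧ IsClopen C)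
    {x : X.left} (hx : ¬ IsClosed ({x} : Set X.left)) (hy : IsClosed ({g.left x} : Set Y.left)) :
    X.hom x ∉ V := by
  intro hs
  obtain ⟨hgp, hYi, hXn, hYn, hbir, hsurj, hinj⟩ := setup hX hYreg hYproj hYflat g hg
  haveI := hgp
  haveI := hX.2.1
  haveI := hX.2.2.2.1
  haveI := hYi
  haveI := hXn
  haveI := hYn
  haveI := hsurj
  have hw : g.left ≫ Y.hom = X.hom := Over.w g
  have hfw : ∀ z, X.hom z = Y.hom (g.left z) := fun z => congrArg (fun φ => φ z) hw.symm
  obtain ⟨e', hxe, hne⟩ := NormBlow74.Main.exists_proper_specialization hx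
  have hge : g.left e' = g.left x :=
    Set.mem_singleton_iff.mp (hy.closure_eq ▸ specializes_iff_mem_closure.mp (hxe.map g.left.continuous))
  have hs0 : (X.hom x).asIdeal ≠ ⊥ := fun h0 => hne (hinj x e' h0 hge.symm)
  obtain ⟨hgen, hstalk⟩ := Modif.generic_of_bir hbir
  have hdY : ∀ z : Y.left, ringKrullDim (Y.left.presheaf.stalk z) ≤ 2 := dim_le_two g.left hX.2.2.1.le
  have hdy : ¬ ringKrullDim (Y.left.presheaf.stalk (g.left x)) ≤ 1 := fun h =>
    hne (ModelFibre.Centered.subsingleton_fibre g.left (normal_of_regular hYreg) hgen hstalk h rfl hge)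
  obtain ⟨d, hd, hdne, hdq⟩ := exists_gen_in_fibre inferInstance Y.hom _ hdy (hfw x ▸ hs0)
  set s := X.hom x with hsdef
  obtain ⟨p, hp⟩ : x ∈ Set.range (X.hom.fiberι s) := by
    rw [Scheme.Hom.range_fiberι]; rfl
  obtain ⟨C, hpC, hCi, hCc⟩ := hV s hs p
  set ιs := X.hom.fiberι s
  -- the clopen piece maps to the point
  have hCsub : ∀ c ∈ C, g.left (ιs c) = g.left x := by
    intro c hc
    obtain ⟨ξ, hξ⟩ := QuasiSober.sober hCi hCc.1
    have hξx : ιs ξ ⤳ x := hp ▸ (hξ.specializes hpC).map ιs.continuous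
    have hξe : ιs ξ = x := by
      by_contra hξne
      have := ModelFibre.Centered.eq_genericPoint_of_chain
        ((Cyc.TorPD.ringKrullDim_stalk_le e').trans hX.2.2.1.le) hξx hξne hxe hne rfl
      have hξs : X.hom (ιs ξ) = s := by
        have : ιs ξ ∈ Set.range ιs := ⟨ξ, rfl⟩
        rwa [Scheme.Hom.range_fiberι] at this
      have h1 : X.hom (ιs ξ) ⤳ X.hom (genericPoint X.left) := by rw [this]
      obtain ⟨z, hz, hzq⟩ := Flat.generalizingMap X.hom (a := genericPoint X.left)
        (b := (⟨⊥, Ideal.isPrime_bot⟩ : PrimeSpectrum R)) ((PrimeSpectrum.le_iff_specializes _ _).1 bot_le)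
      have hzg : z = genericPoint X.left := (hz.antisymm (genericPoint_specializes z)).eq
      refine hs0 ?_
      rw [← hξs, this, ← hzg]
      exact congrArg PrimeSpectrum.asIdeal hzq
    have := (hξ.specializes hc).map ιs.continuous
    rw [hξe] at this
    exact Set.mem_singleton_iff.mp (hy.closure_eq ▸ specializes_iff_mem_closure.mp (this.map g.left.continuous))
  -- the rest of the fibre reaches the point
  have hCo : IsClosed (ιs '' Cᶜ) := by
    have hcl : IsClosed (Set.range ιs) := by
      rw [Scheme.Hom.range_fiberι]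
      have hmax : IsClosed ({s} : Set (Spec (CommRingCat.of R) : Scheme.{u})) :=
        (PrimeSpectrum.isClosed_singleton_iff_isMaximal s).mpr (s.2.isMaximal hs0)
      exact hmax.preimage X.hom.continuous
    exact (Topology.IsClosedEmbedding.mk ιs.isEmbedding hcl).isClosedMap _ hCc.2.isClosed_compl
  have himg : IsClosed (g.left '' (ιs '' Cᶜ)) := g.left.isClosedMap _ hCo
  obtain ⟨xd, hxd⟩ := g.left.surjective d
  have hmem : g.left x ∈ g.left '' (ιs '' Cᶜ) := by
    refine himg.closure_subset_iff.mpr (Set.singleton_subset_iff.mpr ?_) (specializes_iff_mem_closure.mp hd)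
    obtain ⟨pd, rfl⟩ : xd ∈ Set.range ιs := by
      rw [Scheme.Hom.range_fiberι]
      show X.hom xd = s
      rw [hfw, hxd, hdq, ← hfw]
    exact ⟨_, ⟨pd, fun hpd => hdne (hxd ▸ hCsub pd hpd), rfl⟩, hxd⟩
  obtain ⟨_, ⟨p₁, hp₁, rfl⟩, hgp₁⟩ := hmem
  obtain ⟨U, hU, hiso⟩ := hbir
  haveI := hiso
  have hconn := (Groth.Agent.S7907.connected_fibre g.left (normal_of_regular hYreg) U hU).1 (g.left x)
  have hsubr : g.left ⁻¹' {g.left x} ⊆ Set.range ιs := fun z (hz : g.left z = g.left x) => by
    rw [Scheme.Hom.range_fiberι]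
    show X.hom z = s
    rw [hfw, hz, ← hfw]
  have hconn' : _root_.IsPreconnected (ιs ⁻¹' (g.left ⁻¹' {g.left x})) :=
    (ιs.isEmbedding.isInducing.isPreconnected_image).mp (by rw [Set.image_preimage_eq_of_subset hsubr]; exact hconn)
  exact hp₁ (hconn'.subset_isClopen hCc ⟨p, congrArg g.left hp, hpC⟩ hgp₁)

/-- The points of codimension one over a closed set. -/
def P (Y : Over (Spec (CommRingCat.of R))) (V : (Spec (CommRingCat.of R)).Opens) : Set Y.left :=
  {y | ringKrullDim (Y.left.presheaf.stalk y) = 1 ∧ Y.hom y ∉ V}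

theorem finite_P (Y : Over (Spec (CommRingCat.of R))) [IsIntegral Y.left] [AlgebraicGeometry.IsNoetherian Y.left]
    (V : (Spec (CommRingCat.of R)).Opens) (hgen : Y.hom (genericPoint Y.left) ∈ V) : (P Y V).Finite := by
  set Z : Set Y.left := ((Y.hom ⁻¹ᵁ V : Y.left.Opens) : Set Y.left)ᶜ
  have hZc : IsClosed Z := (Y.hom ⁻¹ᵁ V).2.isClosed_compl
  obtain ⟨S, hSf, hSc, hSi, hSU⟩ := NoetherianSpace.exists_finite_set_isClosed_irreducible hZc
  choose! gp hgp using fun (s : Set Y.left) (hs : s ∈ S) => QuasiSober.sober (hSi s hs) (hSc s hs)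
  refine (hSf.image gp).subset fun y hy => ?_
  have hyZ : y ∈ Z := hy.2
  rw [hSU] at hyZ
  obtain ⟨s, hs, hys⟩ := Set.mem_sUnion.mp hyZ
  refine ⟨s, hs, ?_⟩
  by_contra hne
  have hgZ : gp s ∈ Z := hSU ▸ Set.mem_sUnion.mpr ⟨s, hs, (hgp s hs).mem⟩
  have hgη : gp s ≠ genericPoint Y.left := fun h => hgZ (h ▸ hgen)
  have h1 := Order.coheight_add_one_le (SurfFactor85.Exc.lt_of_spec (genericPoint_specializes (gp s)) (Ne.symm hgη))
  have h2 := Order.coheight_add_one_le (SurfFactor85.Exc.lt_of_spec ((hgp s hs).specializes hys) hne)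
  have h4 : (2 : ℕ∞) ≤ Order.coheight y :=
    calc (2 : ℕ∞) = 0 + 1 + 1 := by norm_num
      _ ≤ Order.coheight (genericPoint Y.left) + 1 + 1 := by gcongr; exact zero_le
      _ ≤ Order.coheight (gp s) + 1 := by gcongr
      _ ≤ Order.coheight y := h2
  have h5 := hy.1
  rw [ringKrullDim_stalk_eq_coheight] at h5
  rw [show Order.coheight y = 1 by exact_mod_cast h5] at h4
  exact absurd h4 (by decide)

theorem eq_one_of {Y : Scheme.{u}} [IsIntegral Y] {y : Y} (h : ringKrullDim (Y.presheaf.stalk y) ≤ 1)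
    (hne : y ≠ genericPoint Y) : ringKrullDim (Y.presheaf.stalk y) = 1 := by
  have h1 := Order.coheight_add_one_le (SurfFactor85.Exc.lt_of_spec (genericPoint_specializes y) (Ne.symm hne))
  rw [ringKrullDim_stalk_eq_coheight] at h ⊢
  have h2 : Order.coheight y ≤ 1 := by exact_mod_cast h
  have h3 : 1 ≤ Order.coheight y := le_trans (by simp) h1
  exact_mod_cast le_antisymm h2 h3

theorem dim_eq_two {X Y : Scheme.{u}} [IsIntegral X] [IsIntegral Y] [IsLocallyNoetherian Y] (g : X ⟶ Y) [IsProper g]
    [Surjective g] (hbir : Modif.Bir g) (hX : topologicalKrullDim X = 2) : topologicalKrullDim Y = 2 := by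
  refine le_antisymm (SurfFactor85.Seq.dim_le_of_surjective g hX.le) ?_
  by_contra hcon
  have h1 : topologicalKrullDim Y ≤ (1 : ℕ) := by
    have h2 := SurfFactor85.Seq.dim_le_of_surjective g hX.le
    generalize topologicalKrullDim Y = t at hcon h2
    cases t with
    | bot => exact bot_le
    | coe n =>
      cases n with
      | top => exact absurd le_top hcon
      | coe m =>
        norm_cast at hcon h2 ⊢
        have : ¬ 2 ≤ m := fun hm => hcon (by exact_mod_cast hm)
        exact_mod_cast (show m ≤ 1 by omega)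
  obtain ⟨U, hU, hiso⟩ := hbir
  haveI := hiso
  have h3 : topologicalKrullDim X ≤ 1 := by
    rw [show topologicalKrullDim X = Order.krullDim X from
      Order.krullDim_eq_of_orderIso (irreducibleSetEquivPoints (α := X)), Order.krullDim_eq_iSup_coheight]
    refine iSup_le fun x => ?_
    have := Amp36.Modif.Birat.ringKrullDim_stalk_le g U hU 1 h1 x
    rw [ringKrullDim_stalk_eq_coheight] at this
    exact_mod_cast this
  rw [hX] at h3
  exact absurd h3 (by decide)

/-- Existence of a relatively minimal contraction. -/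
theorem exists_relMinimal (X : Over (Spec (CommRingCat.of R))) (hX : ArSurf.IsArithSurface R X) :
    ∃ (Y : Over (Spec (CommRingCat.of R))) (f : X ⟶ Y), ArSurf.IsArithSurface R Y ∧
      Neron.IsRelMinimalRegularModel R Y ∧ IsIso ((Neron.genericFibre R).map f) := by
  classical
  haveI := hX.2.2.2.1
  obtain ⟨n, i, hi, hiX⟩ := hX.2.2.2.2
  haveI : IsProper X.hom := by rw [← hiX]; infer_instance
  obtain ⟨V, hVne, hV⟩ := Fibres.exists_open X.hom hX.1
  let Q : ℕ → Prop := fun k => ∃ (Y : Over (Spec (CommRingCat.of R))) (f : X ⟶ Y),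
    (∀ y : Y.left, IsRegularLocalRing (Y.left.presheaf.stalk y)) ∧ Neron.IsProjectiveOver R Y ∧ Flat Y.hom ∧
      IsIso ((Neron.genericFibre R).map f) ∧ (P Y V).ncard = k
  have hex : ∃ k, Q k := ⟨_, X, 𝟙 X, hX.1, hX.2.2.2.2, hX.2.2.2.1, by
    rw [CategoryTheory.Functor.map_id]; infer_instance, rfl⟩
  obtain ⟨Y, f, hYreg, hYproj, hYflat, hf, hcard⟩ := Nat.find_spec hex
  obtain ⟨hfp, hYi, hXn, hYn, hfbir, hfsurj, hfinj⟩ := setup hX hYreg hYproj hYflat f hf
  haveI := hfp
  haveI := hX.2.1
  haveI := hYi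
  haveI := hXn
  haveI := hYn
  haveI := hfsurj
  have hYA : ArSurf.IsArithSurface R Y := ⟨hYreg, hYi, dim_eq_two f.left hfbir hX.2.2.1, hYflat, hYproj⟩
  refine ⟨Y, f, hYA, ⟨hYreg, hYproj, hYflat, fun Z hZreg hZproj hZflat h hh => ?_⟩, hf⟩
  by_contra hnot
  obtain ⟨hhp, hZi, -, hZn, hhbir, hhsurj, hhinj⟩ := setup hYA hZreg hZproj hZflat h hh
  haveI := hhp
  haveI := hZi
  haveI := hZn
  haveI := hhsurj
  obtain ⟨hhgen, hhst⟩ := Modif.generic_of_bir hhbir
  obtain ⟨hfgen, hfst⟩ := Modif.generic_of_bir hfbir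
  have hZnor := normal_of_regular hZreg
  have hgenV : Y.hom (genericPoint Y.left) ∈ V := by
    obtain ⟨z, hz, hzq⟩ := Flat.generalizingMap Y.hom (a := genericPoint Y.left)
      (b := (⟨⊥, Ideal.isPrime_bot⟩ : PrimeSpectrum R)) ((PrimeSpectrum.le_iff_specializes _ _).1 bot_le)
    rw [show genericPoint Y.left = z from (hz.antisymm (genericPoint_specializes z)).eq.symm, hzq]
    exact ((PrimeSpectrum.le_iff_specializes _ _).1 bot_le).mem_open V.2 hVne.some_mem
  have hPfin := finite_P Y V hgenV
  -- a point with infinite fibre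
  obtain ⟨z, hz⟩ : ∃ z, ¬ (h.left ⁻¹' {z}).Finite := by
    by_contra hfin
    push Not at hfin
    haveI := ModelFibre.Centered.isIso_of_finite h.left hZnor hhgen hhst hfin
    haveI : IsIso ((Over.forget _).map h) := ‹IsIso h.left›
    exact hnot (isIso_of_reflects_iso h (Over.forget _))
  obtain ⟨e, e', hee, hne⟩ := ModelFibre.Centered.exists_specializes_of_infinite h.left z hz
  let x₀ := h.left.fiberι z e
  have hsp : x₀ ⤳ h.left.fiberι z e' := hee.map (h.left.fiberι z).continuous
  have hne' : x₀ ≠ h.left.fiberι z e' := fun hh' => hne ((h.left.fiberι z).isEmbedding.injective hh')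
  have hfz : ∀ w, h.left (h.left.fiberι z w) = z := fun w => by
    have : h.left.fiberι z w ∈ Set.range (h.left.fiberι z) := ⟨w, rfl⟩
    rwa [Scheme.Hom.range_fiberι] at this
  have hdY : ∀ y : Y.left, ringKrullDim (Y.left.presheaf.stalk y) ≤ 2 := fun y =>
    (Cyc.TorPD.ringKrullDim_stalk_le y).trans hYA.2.2.1.le
  have hdZ := dim_le_two h.left hYA.2.2.1.le
  have hz2 : ¬ ringKrullDim (Z.left.presheaf.stalk z) ≤ 1 := fun h1 =>
    hz (ModelFibre.Centered.subsingleton_fibre h.left hZnor hhgen hhst h1).finite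
  have hzc : IsClosed ({z} : Set Z.left) := by
    by_contra hzc
    obtain ⟨z', h', hne''⟩ := NormBlow74.Main.exists_proper_specialization hzc
    exact hz2 (ModelFibre.Centered.ringKrullDim_stalk_le_one (hdZ z') h' hne'')
  have hx₀g : x₀ ≠ genericPoint Y.left := fun hh' => hz2 (by
    have : z = genericPoint Z.left := by rw [← hfz e, show h.left.fiberι z e = x₀ from rfl, hh', hhgen]
    rw [this, ringKrullDim_eq_zero_of_isField (Field.toIsField Z.left.functionField)]
    exact zero_le_one)
  have hx₀1 : ringKrullDim (Y.left.presheaf.stalk x₀) = 1 :=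
    eq_one_of (ModelFibre.Centered.ringKrullDim_stalk_le_one (hdY _) hsp hne') hx₀g
  -- the contracted point is over the complement of `V`
  have hx₀P : x₀ ∈ P Y V := by
    refine ⟨hx₀1, ?_⟩
    obtain ⟨x, hx⟩ := f.left.surjective x₀
    have hxc : ¬ IsClosed ({x} : Set X.left) := fun hc => by
      have h1 := f.left.isClosedMap _ hc
      rw [Set.image_singleton, hx] at h1
      exact hne' (Set.mem_singleton_iff.mp (h1.closure_eq ▸ specializes_iff_mem_closure.mp hsp)).symm
    have hcomp : IsIso ((Neron.genericFibre R).map (f ≫ h)) := by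
      rw [Functor.map_comp]; infer_instance
    have := notMem_of_contracted hX hZreg hZproj hZflat (f ≫ h) hcomp V hV hxc (by
      rw [Over.comp_left, Scheme.Hom.comp_apply, hx]
      exact (hfz e).symm ▸ hzc)
    rwa [← Over.w f, Scheme.Hom.comp_apply, hx] at this
  -- counting
  have hsub : P Z V ⊆ h.left '' (P Y V \ {x₀}) := by
    intro w hw
    obtain ⟨y, rfl⟩ := h.left.surjective w
    refine ⟨y, ⟨⟨eq_one_of ?_ ?_, ?_⟩, ?_⟩, rfl⟩
    · obtain ⟨U, hU, hiso⟩ := id hhbir
      haveI := hiso
      exact (Flat55.FibreDimApps.ringKrullDim_stalk_le_of_isBirational h.left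
        (Amp36.Modif.Birat.isBirational h.left U hU) y).trans hw.1.le
    · rintro rfl
      have := hw.1
      rw [hhgen, ringKrullDim_eq_zero_of_isField (Field.toIsField Z.left.functionField)] at this
      exact zero_ne_one this
    · rw [← Over.w h, Scheme.Hom.comp_apply]; exact hw.2
    · rintro (rfl : y = x₀)
      exact hz2 (hfz e ▸ hw.1.le)
  have hlt : (P Z V).ncard < (P Y V).ncard := by
    refine lt_of_le_of_lt (Set.ncard_le_ncard hsub ((hPfin.sdiff).image _)) ?_
    refine lt_of_le_of_lt (Set.ncard_image_le hPfin.sdiff) ?_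
    exact Set.ncard_diff_singleton_lt_of_mem hx₀P hPfin
  refine Nat.find_min hex (hcard ▸ hlt) ⟨Z, f ≫ h, hZreg, hZproj, hZflat, ?_, rfl⟩
  rw [Functor.map_comp]; infer_instance

end Groth.Agent.Lib.RelMin74.Main
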